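import Mathlib

/-! Descent of unique factorization along faithfully flat local maps. -/

universe u

namespace UFDDescLib

variable {R R' : Type u} [CommRing R] [CommRing R'] [Algebra R R']

lemma map_inf_span_pair [Module.Flat R R'] (a b : R) :
    (Ideal.span {a} ⊓ Ideal.span {b}).map (algebraMap R R') =
      Ideal.span {algebraMap R R' a} ⊓ Ideal.span {algebraMap R R' b} := by
  apply le_antisymm
  · refine le_trans (Ideal.map_inf_le _) ?_
    simp [Ideal.map_span]
  · rintro x ⟨ha, hb⟩
    obtain ⟨r, rfl⟩ := Ideal.mem_span_singleton.1 ha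
    obtain ⟨s, hs⟩ := Ideal.mem_span_singleton.1 hb
    have h : ∑ i, (![a, -b] : Fin 2 → R) i • (![r, s] : Fin 2 → R') i = 0 := by
      simp [Fin.sum_univ_two, Algebra.smul_def, hs]
    obtain ⟨k, α, y, hy, hα⟩ :=
      Module.Flat.isTrivialRelation_of_sum_smul_eq_zero (R := R) (M := R') h
    have hy0 := hy 0
    simp only [Matrix.cons_val_zero] at hy0
    rw [hy0, Finset.mul_sum]
    refine Ideal.sum_mem _ fun j _ => ?_
    rw [Algebra.smul_def, ← mul_assoc, ← map_mul]
    refine Ideal.mul_mem_right _ _ (Ideal.mem_map_of_mem _ ⟨?_, ?_⟩)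
    · exact Ideal.mem_span_singleton.2 ⟨_, rfl⟩
    · have := hα j
      simp [Fin.sum_univ_two] at this
      exact Ideal.mem_span_singleton.2 ⟨α 1 j, by linear_combination this⟩

lemma exists_span_of_map_eq_span [IsDomain R'] [IsLocalRing R'] [Module.FaithfullyFlat R R']
    (I : Ideal R) (c : R') (h : I.map (algebraMap R R') = Ideal.span {c}) :
    ∃ x, I = Ideal.span {x} := by
  suffices ∃ x ∈ I, Ideal.span {c} ≤ Ideal.span {algebraMap R R' x} by
    obtain ⟨x, hx, hle⟩ := this
    refine ⟨x, le_antisymm ?_ ((Ideal.span_singleton_le_iff_mem _).2 hx)⟩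
    rw [← Ideal.comap_map_eq_self_of_faithfullyFlat (B := R') (Ideal.span {x})]
    refine Ideal.map_le_iff_le_comap.1 ?_
    rw [h, Ideal.map_span, Set.image_singleton]
    exact hle
  by_cases hc : c = 0
  · exact ⟨0, zero_mem _, by simp [hc]⟩
  by_contra H
  push Not at H
  have hle : I.map (algebraMap R R') ≤ Ideal.span {c} * IsLocalRing.maximalIdeal R' := by
    rw [Ideal.map_le_iff_le_comap]
    intro x hx
    have hx' : algebraMap R R' x ∈ Ideal.span {c} := h ▸ Ideal.mem_map_of_mem _ hx
    obtain ⟨t, ht⟩ := Ideal.mem_span_singleton.1 hx'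
    rw [Ideal.mem_comap]
    rw [ht]
    refine Ideal.mul_mem_mul (Ideal.mem_span_singleton_self c) ?_
    intro hu
    refine H x hx ?_
    rw [ht, Ideal.span_singleton_mul_right_unit hu]
  have hmem : c ∈ Ideal.span {c} * IsLocalRing.maximalIdeal R' := hle (h.symm ▸ Ideal.mem_span_singleton_self c)
  obtain ⟨t, ht, htc⟩ := Ideal.mem_span_singleton_mul.1 hmem
  have : t = 1 := mul_left_cancel₀ hc (by rw [htc, mul_one])
  exact (Ideal.ne_top_iff_one _).1 (IsLocalRing.maximalIdeal.isMaximal R').ne_top (this ▸ ht)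

theorem ufd [IsDomain R] [IsDomain R'] [IsNoetherianRing R] [IsLocalRing R']
    [Module.FaithfullyFlat R R'] [UniqueFactorizationMonoid R'] :
    UniqueFactorizationMonoid R := by
  classical
  let _ : GCDMonoid R' := UniqueFactorizationMonoid.toGCDMonoid R'
  have hex : ∀ a b : R, ∃ c : R, ∀ d : R, a ∣ d ∧ b ∣ d ↔ c ∣ d := by
    intro a b
    have hl : Ideal.span {algebraMap R R' a} ⊓ Ideal.span {algebraMap R R' b} =
        Ideal.span {lcm (algebraMap R R' a) (algebraMap R R' b)} := by
      ext x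
      simp [Ideal.mem_span_singleton, lcm_dvd_iff]
    obtain ⟨c, hc⟩ := exists_span_of_map_eq_span (Ideal.span {a} ⊓ Ideal.span {b}) _
      ((map_inf_span_pair a b).trans hl)
    refine ⟨c, fun d => ?_⟩
    have := SetLike.ext_iff.1 hc d
    simpa [Ideal.mem_span_singleton] using this
  let _ : GCDMonoid R := gcdMonoidOfExistsLCM hex
  infer_instance

end UFDDescLib
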